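import Mathlib

/-!
# The numbers of elements of each order in `PGL₂(q)`, `q` odd

There are `q²` involutions, `q² - 1` elements of order `p`, and for every other order `n > 1`
the number of elements of order `n` is a multiple of `q`.
-/

set_option autoImplicit false
set_option linter.style.haveILetI false
set_option linter.unusedSectionVars false

namespace Cfsg.Agent.NSE

open Matrix
open scoped MatrixGroups

/-- A subgroup acting by conjugation without fixed points on a set divides its cardinality. -/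
theorem card_dvd_of_free_conj {G : Type*} [Group G] [Finite G] (P : Subgroup G) (S : G → Prop)
    (hinv : ∀ g ∈ P, ∀ y, S y → S (g * y * g⁻¹))
    (hfree : ∀ y, S y → ∀ g ∈ P, g * y * g⁻¹ = y → g = 1) :
    Nat.card P ∣ Nat.card {y : G // S y} := by
  letI : MulAction P {y : G // S y} :=
    { smul := fun g y => ⟨(g : G) * y.1 * (g : G)⁻¹, hinv g g.2 y.1 y.2⟩
      one_smul := fun y => Subtype.ext (by
        show ((1 : P) : G) * y.1 * ((1 : P) : G)⁻¹ = y.1
        simp)
      mul_smul := fun a b y => Subtype.ext (by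
        show ((a * b : P) : G) * y.1 * ((a * b : P) : G)⁻¹ =
          (a : G) * ((b : G) * y.1 * (b : G)⁻¹) * (a : G)⁻¹
        simp [mul_assoc]) }
  have h : ∀ y : {y : G // S y}, MulAction.stabilizer P y = ⊥ := fun y => by
    rw [Subgroup.eq_bot_iff_forall]
    intro g hg
    exact Subtype.ext (hfree y.1 y.2 g g.2 (congrArg Subtype.val hg))
  rw [Nat.card_congr (MulAction.selfEquivOrbitsQuotientProd h), Nat.card_prod]
  exact dvd_mul_left _ _

variable {F : Type*} [Field F]

theorem mem_center_iff_entries (A : GL (Fin 2) F) :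
    A ∈ Subgroup.center (GL (Fin 2) F) ↔
      (A : Matrix (Fin 2) (Fin 2) F) 0 1 = 0 ∧ (A : Matrix (Fin 2) (Fin 2) F) 1 0 = 0 ∧
        (A : Matrix (Fin 2) (Fin 2) F) 0 0 = (A : Matrix (Fin 2) (Fin 2) F) 1 1 := by
  rw [Matrix.GeneralLinearGroup.mem_center_iff_val_eq_scalar, Set.mem_range]
  constructor
  · rintro ⟨c, hc⟩
    simp [← hc, Matrix.scalar_apply]
  · rintro ⟨h1, h2, h3⟩
    refine ⟨(A : Matrix (Fin 2) (Fin 2) F) 0 0, ?_⟩
    ext i j
    fin_cases i <;> fin_cases j <;> simp [Matrix.scalar_apply, h1, h2, h3]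

variable [Fintype F]

theorem card_preimage (S : GL (Fin 2) F ⧸ Subgroup.center (GL (Fin 2) F) → Prop) :
    Nat.card {A : GL (Fin 2) F // S (QuotientGroup.mk A)} =
      (Fintype.card F - 1) * Nat.card {x : GL (Fin 2) F ⧸ Subgroup.center (GL (Fin 2) F) // S x} := by
  classical
  have h := Nat.card_congr (QuotientGroup.preimageMkEquivSubgroupProdSet
    (Subgroup.center (GL (Fin 2) F)) {x | S x})
  rw [Nat.card_prod] at h
  have hc : Nat.card (Subgroup.center (GL (Fin 2) F)) = Fintype.card F - 1 := by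
    rw [Matrix.GeneralLinearGroup.center_eq_range_scalar,
      ← Nat.card_congr (MonoidHom.ofInjective (f := Matrix.GeneralLinearGroup.scalar (Fin 2) (R := F)) (by
        intro a b hab
        have h1 := congrArg (fun A : GL (Fin 2) F => (A : Matrix (Fin 2) (Fin 2) F) 0 0) hab
        exact Units.ext (by simpa using h1))).toEquiv,
      Nat.card_units, Nat.card_eq_fintype_card]
  rw [hc] at h
  exact h

/-- The cone `a² + bc = 0` has `q²` points. -/
theorem card_cone : Nat.card {v : F × F × F // v.1 * v.1 + v.2.1 * v.2.2 = 0} = Fintype.card F ^ 2 := by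
  classical
  rw [sq, ← Fintype.card_prod, ← Nat.card_eq_fintype_card (α := F × F)]
  refine Nat.card_congr
    { toFun := fun v => if v.1.2.1 = 0 then (0, v.1.2.2) else (v.1.2.1, v.1.1)
      invFun := fun w => if h : w.1 = 0 then ⟨(0, 0, w.2), by simp⟩
        else ⟨(w.2, w.1, -(w.2 * w.2) / w.1), by field_simp; ring⟩
      left_inv := ?_
      right_inv := ?_ }
  · rintro ⟨⟨a, b, c⟩, h⟩
    simp only at h
    by_cases hb : b = 0
    · subst hb
      have ha : a = 0 := by simpa using h
      subst ha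
      simp
    · simp only [if_neg hb, dif_neg hb]
      have : -(a * a) / b = c := by
        rw [div_eq_iff hb]; linear_combination -h
      simp [this]
  · rintro ⟨x, y⟩
    by_cases hx : x = 0
    · subst hx; simp
    · simp [hx]

variable (hodd : Odd (Fintype.card F))
include hodd

theorem two_ne_zero_of_odd : (2 : F) ≠ 0 := by
  refine Ring.two_ne_zero fun h => ?_
  have := FiniteField.even_card_iff_char_two.1 h
  exact Nat.not_even_iff_odd.2 hodd (Nat.even_iff.2 this)

/-- `PGL₂(q)` has `q²` involutions. -/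
theorem card_order_two :
    Nat.card {x : GL (Fin 2) F ⧸ Subgroup.center (GL (Fin 2) F) // orderOf x = 2} =
      Fintype.card F ^ 2 := by
  classical
  haveI := Fact.mk Nat.prime_two
  have h2 := two_ne_zero_of_odd hodd
  have hpre := card_preimage (F := F) (fun x => orderOf x = 2)
  have hiff : ∀ A : GL (Fin 2) F,
      orderOf (QuotientGroup.mk A : GL (Fin 2) F ⧸ Subgroup.center (GL (Fin 2) F)) = 2 ↔
        (A : Matrix (Fin 2) (Fin 2) F) 1 1 = -(A : Matrix (Fin 2) (Fin 2) F) 0 0 := by
    intro A
    rw [orderOf_eq_prime_iff, ← QuotientGroup.mk_pow, Ne, QuotientGroup.eq_one_iff,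
      QuotientGroup.eq_one_iff, mem_center_iff_entries, mem_center_iff_entries]
    have hdet : (A : Matrix (Fin 2) (Fin 2) F).det ≠ 0 :=
      ((Matrix.isUnit_iff_isUnit_det _).1 A.isUnit).ne_zero
    rw [Matrix.det_fin_two] at hdet
    simp only [pow_two, Units.val_mul, Matrix.mul_apply, Fin.sum_univ_two]
    generalize (A : Matrix (Fin 2) (Fin 2) F) 0 0 = a at hdet ⊢
    generalize (A : Matrix (Fin 2) (Fin 2) F) 0 1 = b at hdet ⊢
    generalize (A : Matrix (Fin 2) (Fin 2) F) 1 0 = c at hdet ⊢
    generalize (A : Matrix (Fin 2) (Fin 2) F) 1 1 = e at hdet ⊢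
    constructor
    · rintro ⟨⟨h01, h10, h00⟩, hns⟩
      by_contra hne
      have hte : a + e ≠ 0 := fun h => hne (by linear_combination h)
      refine hns ⟨?_, ?_, ?_⟩
      · exact (mul_eq_zero.1 (show b * (a + e) = 0 by linear_combination h01)).resolve_right hte
      · exact (mul_eq_zero.1 (show c * (a + e) = 0 by linear_combination h10)).resolve_right hte
      · exact sub_eq_zero.1
          ((mul_eq_zero.1 (show (a - e) * (a + e) = 0 by linear_combination h00)).resolve_right hte)
    · rintro rfl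
      refine ⟨⟨by ring, by ring, by ring⟩, ?_⟩
      rintro ⟨rfl, rfl, h⟩
      have ha : a = 0 := (mul_eq_zero.1 (show (2 : F) * a = 0 by linear_combination h)).resolve_left h2
      subst ha
      simp at hdet
  have e : {A : GL (Fin 2) F //
      orderOf (QuotientGroup.mk A : GL (Fin 2) F ⧸ Subgroup.center (GL (Fin 2) F)) = 2} ≃
      {v : F × F × F // ¬ v.1 * v.1 + v.2.1 * v.2.2 = 0} :=
    { toFun := fun A => ⟨((A.1 : Matrix (Fin 2) (Fin 2) F) 0 0, (A.1 : Matrix (Fin 2) (Fin 2) F) 0 1,
          (A.1 : Matrix (Fin 2) (Fin 2) F) 1 0), fun h => by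
        have hdet : (A.1 : Matrix (Fin 2) (Fin 2) F).det ≠ 0 :=
          ((Matrix.isUnit_iff_isUnit_det _).1 A.1.isUnit).ne_zero
        rw [Matrix.det_fin_two, (hiff A.1).1 A.2] at hdet
        exact hdet (by linear_combination -h)⟩
      invFun := fun v => ⟨Matrix.GeneralLinearGroup.mkOfDetNeZero !![v.1.1, v.1.2.1; v.1.2.2, -v.1.1]
          (by rw [Matrix.det_fin_two_of]; intro h; exact v.2 (by linear_combination -h)),
        (hiff _).2 (by simp [Matrix.GeneralLinearGroup.mkOfDetNeZero])⟩
      left_inv := fun A => by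
        apply Subtype.ext
        apply Units.ext
        ext i j
        fin_cases i <;> fin_cases j <;>
          simp [Matrix.GeneralLinearGroup.mkOfDetNeZero, (hiff A.1).1 A.2]
      right_inv := fun v => by simp [Matrix.GeneralLinearGroup.mkOfDetNeZero] }
  rw [Nat.card_congr e] at hpre
  have hc := card_cone (F := F)
  have hsum : Nat.card {v : F × F × F // ¬ v.1 * v.1 + v.2.1 * v.2.2 = 0} +
      Nat.card {v : F × F × F // v.1 * v.1 + v.2.1 * v.2.2 = 0} =
      Fintype.card F * (Fintype.card F * Fintype.card F) := by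
    rw [add_comm, ← Nat.card_sum, Nat.card_congr (Equiv.sumCompl _), Nat.card_prod, Nat.card_prod,
      Nat.card_eq_fintype_card]
  have hq : 2 ≤ Fintype.card F := Fintype.one_lt_card
  rw [hpre, hc] at hsum
  generalize Fintype.card F = q at hsum hq ⊢
  obtain ⟨j, rfl⟩ : ∃ j, q = j + 2 := ⟨q - 2, by omega⟩
  rw [show j + 2 - 1 = j + 1 by omega] at hsum
  exact Nat.eq_of_mul_eq_mul_left (show 0 < j + 1 by omega) (by nlinarith)

omit hodd in
variable (F) in
theorem exists_char : ∃ p f : ℕ, p.Prime ∧ CharP F p ∧ 0 < f ∧ Fintype.card F = p ^ f := by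
  obtain ⟨p, hp⟩ := CharP.exists F
  obtain ⟨n, hp', hn⟩ := FiniteField.card F p
  exact ⟨p, n, hp', hp, n.pos, hn⟩

variable {p : ℕ} [Fact p.Prime] [CharP F p]

/-- The elements of order `p` of `PGL₂(q)` are the non-scalar matrices with a repeated eigenvalue. -/
theorem orderOf_eq_p_iff (A : GL (Fin 2) F) :
    orderOf (QuotientGroup.mk A : GL (Fin 2) F ⧸ Subgroup.center (GL (Fin 2) F)) = p ↔
      A ∉ Subgroup.center (GL (Fin 2) F) ∧
      ((A : Matrix (Fin 2) (Fin 2) F) 0 0 - (A : Matrix (Fin 2) (Fin 2) F) 1 1) ^ 2 +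
        4 * (A : Matrix (Fin 2) (Fin 2) F) 0 1 * (A : Matrix (Fin 2) (Fin 2) F) 1 0 = 0 := by
  have h2 := two_ne_zero_of_odd hodd
  have hp2 : 2 ≤ p := (Fact.out : p.Prime).two_le
  rw [orderOf_eq_prime_iff, ← QuotientGroup.mk_pow, Ne, QuotientGroup.eq_one_iff,
    QuotientGroup.eq_one_iff, and_comm, and_congr_right_iff]
  intro hA
  set M := (A : Matrix (Fin 2) (Fin 2) F) with hM
  constructor
  · intro hAp
    rw [Matrix.GeneralLinearGroup.mem_center_iff_val_eq_scalar, Set.mem_range,
      Units.val_pow_eq_pow_val] at hAp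
    obtain ⟨c, hc⟩ := hAp
    obtain ⟨μ, hμ⟩ := surjective_frobenius F p c
    rw [frobenius_def] at hμ
    set N := M - Matrix.scalar (Fin 2) μ with hN
    have hNp : N ^ p = 0 := by
      rw [hN, sub_pow_char_of_commute p ((Matrix.scalar_commute μ (fun _ => Commute.all _ _) M).symm),
        ← map_pow, hμ, hc, sub_self]
    have hdetN : N.det = 0 := by
      have := congrArg Matrix.det hNp
      rw [Matrix.det_pow, Matrix.det_zero] at this
      exact (pow_eq_zero_iff (by omega)).1 this
    have hd := hdetN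
    rw [Matrix.det_fin_two] at hd
    have hNN : N * N = (N 0 0 + N 1 1) • N := by
      ext i j
      fin_cases i <;> fin_cases j <;> simp [Matrix.mul_apply, Fin.sum_univ_two] <;>
        first | linear_combination -hd | ring1
    have hpow : ∀ k : ℕ, N ^ (k + 1) = (N 0 0 + N 1 1) ^ k • N := by
      intro k
      induction k with
      | zero => simp
      | succ k ih => rw [pow_succ, ih, smul_mul_assoc, hNN, smul_smul, pow_succ]
    have htr : N 0 0 + N 1 1 = 0 := by
      have h := hpow (p - 1)
      rw [show p - 1 + 1 = p by omega, hNp] at h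
      by_contra hne
      have hN0 : N = 0 := (smul_eq_zero.1 h.symm).resolve_left (pow_ne_zero _ hne)
      exact hne (by simp [hN0])
    have e00 : N 0 0 = M 0 0 - μ := by simp [hN, Matrix.scalar_apply]
    have e11 : N 1 1 = M 1 1 - μ := by simp [hN, Matrix.scalar_apply]
    have e01 : N 0 1 = M 0 1 := by simp [hN, Matrix.scalar_apply]
    have e10 : N 1 0 = M 1 0 := by simp [hN, Matrix.scalar_apply]
    rw [e00, e11] at htr
    rw [e00, e11, e01, e10] at hd
    linear_combination -4 * hd + ((M 0 0 - μ) + (M 1 1 - μ)) * htr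
  · intro hdisc
    set s := (M 0 0 + M 1 1) / 2 with hs
    set N := M - Matrix.scalar (Fin 2) s with hN
    have hs2 : 2 * s = M 0 0 + M 1 1 := by rw [hs, mul_div_cancel₀ _ h2]
    have hNN : N * N = 0 := by
      have e1 : 4 * ((M 0 0 - s) * (M 0 0 - s) + M 0 1 * M 1 0) = 0 := by
        linear_combination hdisc + (-3 * M 0 0 + M 1 1 + 2 * s) * hs2
      have e2 : 4 * ((M 1 1 - s) * (M 1 1 - s) + M 0 1 * M 1 0) = 0 := by
        linear_combination hdisc + (M 0 0 - 3 * M 1 1 + 2 * s) * hs2
      have h4 : (4 : F) ≠ 0 := by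
        rw [show (4 : F) = 2 * 2 by norm_num]; exact mul_ne_zero h2 h2
      have e1' := (mul_eq_zero.1 e1).resolve_left h4
      have e2' := (mul_eq_zero.1 e2).resolve_left h4
      ext i j
      fin_cases i <;> fin_cases j <;>
        simp [hN, Matrix.mul_apply, Fin.sum_univ_two, Matrix.scalar_apply]
      · linear_combination e1'
      · linear_combination (-(M 0 1)) * hs2
      · linear_combination (-(M 1 0)) * hs2
      · linear_combination e2'
    have hNp : N ^ p = 0 := by
      rw [show p = 2 + (p - 2) by omega, pow_add, pow_two, hNN, zero_mul]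
    rw [Matrix.GeneralLinearGroup.mem_center_iff_val_eq_scalar, Set.mem_range,
      Units.val_pow_eq_pow_val]
    refine ⟨s ^ p, ?_⟩
    rw [map_pow]
    rw [hN, sub_pow_char_of_commute p ((Matrix.scalar_commute s (fun _ => Commute.all _ _) M).symm),
      sub_eq_zero] at hNp
    exact hNp.symm

/-- `PGL₂(q)` has `q² - 1` elements of order `p`. -/
theorem card_order_p :
    Nat.card {x : GL (Fin 2) F ⧸ Subgroup.center (GL (Fin 2) F) // orderOf x = p} =
      Fintype.card F ^ 2 - 1 := by
  classical
  have h2 := two_ne_zero_of_odd hodd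
  have hpre := card_preimage (F := F) (fun x => orderOf x = p)
  let C := {v : {v : F × F × F // v.1 * v.1 + v.2.1 * v.2.2 = 0} // v ≠ ⟨(0, 0, 0), by simp⟩}
  have hiff := orderOf_eq_p_iff (F := F) hodd (p := p)
  let g : {s : F // s ≠ 0} × C → GL (Fin 2) F := fun w =>
    Matrix.GeneralLinearGroup.mkOfDetNeZero
      !![w.1.1 + w.2.1.1.1, w.2.1.1.2.1; w.2.1.1.2.2, w.1.1 - w.2.1.1.1] (by
        rw [Matrix.det_fin_two_of]
        intro h
        exact mul_ne_zero w.1.2 w.1.2 (by linear_combination h + w.2.1.2))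
  have hgmem : ∀ w, orderOf (QuotientGroup.mk (g w) :
      GL (Fin 2) F ⧸ Subgroup.center (GL (Fin 2) F)) = p := by
    intro w
    rw [hiff, mem_center_iff_entries]
    simp only [g, Matrix.GeneralLinearGroup.mkOfDetNeZero]
    constructor
    · rintro ⟨hb, hc, ha⟩
      apply w.2.2
      simp at hb hc ha
      have ha' : w.2.1.1.1 = 0 :=
        (mul_eq_zero.1 (show (2 : F) * w.2.1.1.1 = 0 by linear_combination ha)).resolve_left h2
      exact Subtype.ext (Prod.ext ha' (Prod.ext hb hc))
    · simp
      linear_combination (4 : F) * w.2.1.2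
  have hbij : Function.Bijective (fun w => (⟨g w, hgmem w⟩ : {A : GL (Fin 2) F //
      orderOf (QuotientGroup.mk A : GL (Fin 2) F ⧸ Subgroup.center (GL (Fin 2) F)) = p})) := by
    constructor
    · rintro ⟨⟨s, hs⟩, ⟨⟨⟨a, b, c⟩, hv⟩, hv0⟩⟩ ⟨⟨s', hs'⟩, ⟨⟨⟨a', b', c'⟩, hv'⟩, hv0'⟩⟩ h
      have hM := congrArg (fun A : {A : GL (Fin 2) F //
        orderOf (QuotientGroup.mk A : GL (Fin 2) F ⧸ Subgroup.center (GL (Fin 2) F)) = p} =>
        ((A.1 : GL (Fin 2) F) : Matrix (Fin 2) (Fin 2) F)) h
      simp only [g, Matrix.GeneralLinearGroup.mkOfDetNeZero] at hM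
      have e00 := congrFun (congrFun hM 0) 0
      have e01 := congrFun (congrFun hM 0) 1
      have e10 := congrFun (congrFun hM 1) 0
      have e11 := congrFun (congrFun hM 1) 1
      simp at e00 e01 e10 e11
      have es : s = s' := mul_left_cancel₀ h2 (by linear_combination e00 + e11)
      subst es e01 e10
      have ea : a = a' := by linear_combination e00
      subst ea
      rfl
    · rintro ⟨A, hA⟩
      obtain ⟨hns, hd⟩ := (hiff A).1 hA
      have hdet : (A : Matrix (Fin 2) (Fin 2) F).det ≠ 0 :=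
        ((Matrix.isUnit_iff_isUnit_det _).1 A.isUnit).ne_zero
      rw [Matrix.det_fin_two] at hdet
      rw [mem_center_iff_entries] at hns
      generalize hMa : (A : Matrix (Fin 2) (Fin 2) F) 0 0 = a at hd hdet hns
      generalize hMb : (A : Matrix (Fin 2) (Fin 2) F) 0 1 = b at hd hdet hns
      generalize hMc : (A : Matrix (Fin 2) (Fin 2) F) 1 0 = c at hd hdet hns
      generalize hMe : (A : Matrix (Fin 2) (Fin 2) F) 1 1 = e at hd hdet hns
      have hcone : (a - e) / 2 * ((a - e) / 2) + b * c = 0 := by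
        field_simp; linear_combination hd
      refine ⟨⟨⟨(a + e) / 2, fun h => hdet ?_⟩, ⟨⟨((a - e) / 2, b, c), hcone⟩, fun h => hns ?_⟩⟩, ?_⟩
      · have h' : a + e = 0 := by simpa [h2] using h
        have : (4 : F) * (a * e - b * c) = 0 := by linear_combination (a + e) * h' - hd
        exact (mul_eq_zero.1 this).resolve_left (by
          rw [show (4 : F) = 2 * 2 by norm_num]; exact mul_ne_zero h2 h2)
      · simp [Subtype.ext_iff, h2, sub_eq_zero] at h
        exact ⟨h.2.1, h.2.2, h.1⟩
      · apply Subtype.ext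
        apply Units.ext
        ext i j
        fin_cases i <;> fin_cases j <;> simp [g, Matrix.GeneralLinearGroup.mkOfDetNeZero, hMa, hMb, hMc, hMe]
        · field_simp; ring
        · field_simp; ring
  rw [← Nat.card_congr (Equiv.ofBijective _ hbij), Nat.card_prod] at hpre
  have hs : Nat.card {s : F // s ≠ 0} = Fintype.card F - 1 := by
    rw [Nat.card_eq_fintype_card, Fintype.card_subtype_compl, Fintype.card_subtype_eq]
  have hC : Nat.card C = Fintype.card F ^ 2 - 1 := by
    rw [← card_cone (F := F), Nat.card_eq_fintype_card, Nat.card_eq_fintype_card]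
    show Fintype.card {v : {v : F × F × F // v.1 * v.1 + v.2.1 * v.2.2 = 0} //
      ¬ v = ⟨(0, 0, 0), by simp⟩} = _
    rw [Fintype.card_subtype_compl, Fintype.card_subtype_eq]
  rw [hs, hC] at hpre
  have hq : 2 ≤ Fintype.card F := Fintype.one_lt_card
  exact (Nat.eq_of_mul_eq_mul_left (by omega) hpre).symm

/-- For `n ∉ {1, p}` the number of elements of order `n` is a multiple of `q`. -/
theorem card_dvd_card_order {n : ℕ} (hn1 : n ≠ 1) (hnp : n ≠ p) :
    Fintype.card F ∣
      Nat.card {x : GL (Fin 2) F ⧸ Subgroup.center (GL (Fin 2) F) // orderOf x = n} := by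
  classical
  let U : F → GL (Fin 2) F := fun x =>
    Matrix.GeneralLinearGroup.mkOfDetNeZero !![1, x; 0, 1] (by simp [Matrix.det_fin_two_of])
  have hU : ∀ x y, U (x + y) = U x * U y := fun x y => by
    apply Units.ext
    ext i j
    fin_cases i <;> fin_cases j <;>
      simp [U, Matrix.GeneralLinearGroup.mkOfDetNeZero, Matrix.mul_apply, Fin.sum_univ_two, add_comm]
  let u : Multiplicative F →* GL (Fin 2) F ⧸ Subgroup.center (GL (Fin 2) F) :=
    MonoidHom.mk' (fun x => QuotientGroup.mk (U x.toAdd)) fun x y => by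
      simp only [toAdd_mul, hU, QuotientGroup.mk_mul]
  have hinj : Function.Injective u := by
    rw [injective_iff_map_eq_one]
    intro x hx
    have hx' : U x.toAdd ∈ Subgroup.center (GL (Fin 2) F) := (QuotientGroup.eq_one_iff _).1 hx
    rw [mem_center_iff_entries] at hx'
    have := hx'.1
    simp [U, Matrix.GeneralLinearGroup.mkOfDetNeZero] at this
    exact toAdd_eq_zero.1 this
  have hcard : Nat.card u.range = Fintype.card F := by
    rw [← Nat.card_congr (MonoidHom.ofInjective hinj).toEquiv, Nat.card_congr Multiplicative.toAdd,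
      Nat.card_eq_fintype_card]
  rw [← hcard]
  refine card_dvd_of_free_conj u.range (fun x => orderOf x = n) (fun g _ y hy => ?_) ?_
  · rw [show g * y * g⁻¹ = MulAut.conj g y from rfl, MulEquiv.orderOf_eq]; exact hy
  · rintro y hy _ ⟨x, rfl⟩ hfix
    induction y using QuotientGroup.induction_on with | H A => ?_
    by_contra hx1
    have hx : x.toAdd ≠ 0 := fun h => hx1 (by rw [toAdd_eq_zero.1 h, map_one])
    -- `U A = A U λ`
    have hcomm : (QuotientGroup.mk (A * U x.toAdd) : GL (Fin 2) F ⧸ Subgroup.center (GL (Fin 2) F)) =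
        QuotientGroup.mk (U x.toAdd * A) := by
      rw [QuotientGroup.mk_mul, QuotientGroup.mk_mul]
      exact (mul_inv_eq_iff_eq_mul.1 hfix).symm
    rw [QuotientGroup.eq] at hcomm
    obtain ⟨z, hz, hzeq⟩ : ∃ z ∈ Subgroup.center (GL (Fin 2) F), U x.toAdd * A = A * U x.toAdd * z :=
      ⟨_, hcomm, by group⟩
    rw [mem_center_iff_entries] at hz
    have hM : ((U x.toAdd * A : GL (Fin 2) F) : Matrix (Fin 2) (Fin 2) F) =
        ((A * U x.toAdd * z : GL (Fin 2) F) : Matrix (Fin 2) (Fin 2) F) := by rw [hzeq]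
    have e00 := congrFun (congrFun hM 0) 0
    have e01 := congrFun (congrFun hM 0) 1
    have e10 := congrFun (congrFun hM 1) 0
    have e11 := congrFun (congrFun hM 1) 1
    simp [U, Matrix.GeneralLinearGroup.mkOfDetNeZero, Matrix.mul_apply, Fin.sum_univ_two, hz.1, hz.2.1,
      ← hz.2.2] at e00 e01 e10 e11
    have hdet : (A : Matrix (Fin 2) (Fin 2) F).det ≠ 0 :=
      ((Matrix.isUnit_iff_isUnit_det _).1 A.isUnit).ne_zero
    rw [Matrix.det_fin_two] at hdet
    generalize hMa : (A : Matrix (Fin 2) (Fin 2) F) 0 0 = a at e00 e01 e10 e11 hdet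
    generalize hMb : (A : Matrix (Fin 2) (Fin 2) F) 0 1 = b at e00 e01 e10 e11 hdet
    generalize hMc : (A : Matrix (Fin 2) (Fin 2) F) 1 0 = c at e00 e01 e10 e11 hdet
    generalize hMe : (A : Matrix (Fin 2) (Fin 2) F) 1 1 = e at e00 e01 e10 e11 hdet
    generalize hl : (z : Matrix (Fin 2) (Fin 2) F) 0 0 = l at e00 e01 e10 e11
    have hc : c = 0 := by
      by_contra hc
      have hl1 : l = 1 := mul_left_cancel₀ hc (by linear_combination -e10)
      subst hl1
      exact mul_ne_zero hx hc (by linear_combination e00)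
    subst hc
    have he : e ≠ 0 := fun h => hdet (by rw [h]; ring)
    have hl1 : l = 1 := mul_left_cancel₀ he (by linear_combination -e11)
    subst hl1
    have hae : a = e := mul_left_cancel₀ hx (by linear_combination -e01)
    subst hae
    by_cases hA : A ∈ Subgroup.center (GL (Fin 2) F)
    · exact hn1 (by rw [← hy, (QuotientGroup.eq_one_iff A).2 hA, orderOf_one])
    · refine hnp (hy.symm.trans ((orderOf_eq_p_iff hodd A).2 ⟨hA, ?_⟩))
      rw [hMa, hMb, hMc, hMe]; ring

end Cfsg.Agent.NSE
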