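import Mathlib
import Cfsg.Agent.S4212
import Cfsg.Agent.Lib.PSL2.SylowAction
import Cfsg.Agent.Lib.Perm.SharplyPGL

/-!
# Groups with the order and the order-class sizes of `PGL₂(q)`

By Frobenius' theorem the `p`-singular elements are exactly the `q² - 1` elements of order `p`, so
the group acts sharply 3-transitively on its `q + 1` Sylow `p`-subgroups; as there are `q²`
involutions, the two-point stabilisers are abelian.
-/

set_option autoImplicit false
set_option linter.style.haveILetI false
set_option linter.unusedSectionVars false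

namespace Cfsg.Agent.NSE

open MulAction Finset

universe u

/-- A finite set closed under inversion without fixed point has even cardinality. -/
theorem even_card_of_inv {G : Type*} [Group G] (S : Finset G) (hS : ∀ g ∈ S, g⁻¹ ∈ S)
    (hne : ∀ g ∈ S, g⁻¹ ≠ g) : Even S.card := by
  have h : ∏ _g ∈ S, (-1 : ℤ) = 1 := by
    refine prod_involution (fun g _ => g⁻¹) ?_ ?_ ?_ ?_
    · intros; norm_num
    · intro g hg _; exact hne g hg
    · exact hS
    · intro g _; exact inv_inv g
  rw [prod_const] at h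
  exact (neg_one_pow_eq_one_iff_even (by norm_num)).1 h

variable {G : Type u} [Group G] [Finite G]

theorem even_card_order {n : ℕ} (hn : 2 < n) : Even (Nat.card {g : G // orderOf g = n}) := by
  classical
  letI := Fintype.ofFinite G
  rw [Nat.card_eq_fintype_card, Fintype.card_subtype]
  refine even_card_of_inv _ (fun g hg => ?_) (fun g hg h => ?_)
  · simp only [mem_filter, mem_univ, true_and] at hg ⊢; rw [orderOf_inv, hg]
  · simp only [mem_filter, mem_univ, true_and] at hg
    have : orderOf g ∣ 2 := orderOf_dvd_of_pow_eq_one (by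
      rw [pow_two]; nth_rewrite 1 [← h]; exact inv_mul_cancel g)
    have := Nat.le_of_dvd two_pos this
    omega

theorem odd_card_order_two (hev : Even (Nat.card G)) :
    Odd (Nat.card {g : G // orderOf g = 2}) := by
  classical
  letI := Fintype.ofFinite G
  have hbig : Even (univ.filter fun g : G => g ≠ 1 ∧ orderOf g ≠ 2).card := by
    refine even_card_of_inv _ (fun g hg => ?_) (fun g hg h => ?_)
    · simp only [mem_filter, mem_univ, true_and] at hg ⊢
      rw [orderOf_inv, inv_ne_one]; exact hg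
    · simp only [mem_filter, mem_univ, true_and] at hg
      exact hg.2 (orderOf_eq_prime (by rw [pow_two]; nth_rewrite 1 [← h]; exact inv_mul_cancel g) hg.1)
  rw [Nat.card_eq_fintype_card] at hev
  rw [Nat.card_eq_fintype_card, Fintype.card_subtype]
  have h1 := card_filter_add_card_filter_not (s := (univ : Finset G)) (p := fun g => orderOf g = 2)
  have h2 := card_filter_add_card_filter_not
    (s := univ.filter fun g : G => ¬ orderOf g = 2) (p := fun g => g = 1)
  rw [filter_filter, filter_filter] at h2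
  have h3 : (univ.filter fun g : G => ¬ orderOf g = 2 ∧ g = 1).card = 1 := by
    rw [card_eq_one]
    refine ⟨1, ?_⟩
    ext g
    simp only [mem_filter, mem_univ, true_and, mem_singleton]
    exact ⟨fun h => h.2, fun h => ⟨by simp [h], h⟩⟩
  have h4 : (univ.filter fun g : G => ¬ orderOf g = 2 ∧ ¬ g = 1) =
      univ.filter fun g : G => g ≠ 1 ∧ orderOf g ≠ 2 := filter_congr fun g _ => and_comm
  rw [h4, h3] at h2
  rw [card_univ] at h1
  obtain ⟨i, hi⟩ := hbig
  obtain ⟨j, hj⟩ := hev
  rw [Nat.odd_iff]; omega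

variable {p f : ℕ} [Fact p.Prime] (hp2 : p ≠ 2) (hf : 0 < f)

/-- The counting step: all `p`-singular elements have order `p`. -/
theorem singular_order (hp2 : p ≠ 2) (hf : 0 < f) (hG : Nat.card G = p ^ f * ((p ^ f) ^ 2 - 1))
    (hvals : ∀ n, 0 < Nat.card {g : G // orderOf g = n} →
      Nat.card {g : G // orderOf g = n} = 1 ∨ Nat.card {g : G // orderOf g = n} = (p ^ f) ^ 2 ∨
      Nat.card {g : G // orderOf g = n} = (p ^ f) ^ 2 - 1 ∨
      p ^ f ∣ Nat.card {g : G // orderOf g = n} ∧ Even (Nat.card {g : G // orderOf g = n}))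
    (hsq : ∃ n, Nat.card {g : G // orderOf g = n} = (p ^ f) ^ 2) :
    Nat.card {g : G // orderOf g = 2} = (p ^ f) ^ 2 ∧
      Nat.card {g : G // orderOf g = p} = (p ^ f) ^ 2 - 1 ∧
      ∀ g : G, p ∣ orderOf g → orderOf g = p := by
  classical
  letI := Fintype.ofFinite G
  have hp : p.Prime := Fact.out
  have hpodd : Odd p := hp.odd_of_ne_two hp2
  obtain ⟨q, hqdef⟩ : ∃ q, q = p ^ f := ⟨_, rfl⟩
  rw [← hqdef] at hG hvals hsq ⊢
  have hqodd : Odd q := hqdef ▸ hpodd.pow
  have hq3 : 3 ≤ q := by
    have : 3 ≤ p := by have := hp.two_le; omega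
    exact hqdef ▸ this.trans (Nat.le_self_pow hf.ne' p)
  have hpq : p ∣ q := hqdef ▸ dvd_pow_self p hf.ne'
  have hq2 : 9 ≤ q ^ 2 := by nlinarith
  have hev1 : Even (q ^ 2 - 1) := by
    obtain ⟨k, hk⟩ := hqodd.pow (n := 2); exact ⟨k, by omega⟩
  have hevG : Even (Nat.card G) := by rw [hG]; exact hev1.mul_left _
  -- the involutions
  have hm2 : Nat.card {g : G // orderOf g = 2} = q ^ 2 := by
    obtain ⟨n, hn⟩ := hsq
    rcases Nat.lt_or_ge 2 n with h | h
    · exact absurd (even_card_order (G := G) h) (by rw [hn]; exact Nat.not_even_iff_odd.2 hqodd.pow)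
    interval_cases n
    · haveI : IsEmpty {g : G // orderOf g = 0} := ⟨fun g => (orderOf_pos g.1).ne' g.2⟩
      rw [Nat.card_of_isEmpty] at hn; omega
    · haveI : Subsingleton {g : G // orderOf g = 1} := ⟨fun g h => Subtype.ext
        ((orderOf_eq_one_iff.1 g.2).trans (orderOf_eq_one_iff.1 h.2).symm)⟩
      have := Finite.card_le_one_iff_subsingleton.2 ‹Subsingleton {g : G // orderOf g = 1}›
      omega
    · exact hn
  -- elements of order `p`
  have hpG : p ∣ Nat.card G := hG ▸ hpq.mul_right _
  have hpmod : p ∣ Nat.card {g : G // orderOf g = p} + 1 := by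
    have h1 := Cfsg.Agent.S4212.central_roots_dvd (1 : G) (fun g => by simp) p
    rw [Nat.gcd_eq_left hpG] at h1
    refine h1.trans (dvd_of_eq ?_)
    rw [Nat.card_eq_fintype_card, Nat.card_eq_fintype_card, Fintype.card_subtype, Fintype.card_subtype]
    rw [← card_filter_add_card_filter_not (s := univ.filter fun g : G => g ^ p = 1)
      (p := fun g => g ≠ 1), filter_filter, filter_filter]
    congr 1
    · exact congrArg _ (filter_congr fun g _ => ⟨fun h => orderOf_eq_prime h.1 h.2,
        fun h => orderOf_eq_prime_iff.1 h⟩)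
    · rw [card_eq_one]
      refine ⟨1, ?_⟩
      ext g
      simp only [mem_filter, mem_univ, true_and, mem_singleton, not_not]
      exact ⟨fun h => h.2, fun h => ⟨by rw [h, one_pow], h⟩⟩
  have hmp : Nat.card {g : G // orderOf g = p} = q ^ 2 - 1 := by
    have hpos : 0 < Nat.card {g : G // orderOf g = p} := by
      obtain ⟨g, hg⟩ := exists_prime_orderOf_dvd_card' p hpG
      haveI : Nonempty {g : G // orderOf g = p} := ⟨⟨g, hg⟩⟩
      exact Nat.card_pos
    rcases hvals p hpos with h | h | h | ⟨h, -⟩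
    · rw [h] at hpmod; exact absurd ((Nat.prime_dvd_prime_iff_eq hp Nat.prime_two).1 hpmod) hp2
    · rw [h] at hpmod
      exact absurd ((Nat.dvd_add_right (hpq.trans (dvd_pow_self q two_ne_zero))).1 hpmod) hp.not_dvd_one
    · exact h
    · exact absurd ((Nat.dvd_add_right (hpq.trans h)).1 hpmod) hp.not_dvd_one
  have h12 : ∀ n, n ≠ 1 → n ≠ 2 → Nat.card {g : G // orderOf g = n} ≠ q ^ 2 - 1 →
      q ∣ Nat.card {g : G // orderOf g = n} := by
    intro n hn1 hn2 hne
    rcases Nat.eq_zero_or_pos (Nat.card {g : G // orderOf g = n}) with h0 | hpos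
    · rw [h0]; exact dvd_zero _
    have hn : 2 < n := by
      rcases Nat.eq_zero_or_pos n with rfl | h
      · haveI : IsEmpty {g : G // orderOf g = 0} := ⟨fun g => (orderOf_pos g.1).ne' g.2⟩
        rw [Nat.card_of_isEmpty] at hpos; omega
      · omega
    have hev := even_card_order (G := G) hn
    rcases hvals n hpos with h | h | h | ⟨h, -⟩
    · rw [h] at hev; exact absurd hev Nat.not_even_one
    · rw [h] at hev; exact absurd hev (Nat.not_even_iff_odd.2 hqodd.pow)
    · exact absurd h hne
    · exact h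
  -- `p` is the only order occurring `q² - 1` times
  have hfib : ∀ n, (univ.filter fun g : G => orderOf g = n).card = Nat.card {g : G // orderOf g = n} :=
    fun n => by rw [Nat.card_eq_fintype_card, Fintype.card_subtype]
  let D := univ.image fun g : G => orderOf g
  let K := D.filter fun n => Nat.card {g : G // orderOf g = n} = q ^ 2 - 1
  have hsum : Nat.card G = ∑ n ∈ D, Nat.card {g : G // orderOf g = n} := by
    rw [Nat.card_eq_fintype_card, ← card_univ, card_eq_sum_card_image (fun g : G => orderOf g)]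
    exact sum_congr rfl fun n _ => hfib n
  have hmodK : q ∣ ∑ n ∈ D, (Nat.card {g : G // orderOf g = n}) → K.card % q = 1 := by
    intro h
    have h1 : ((∑ n ∈ D, Nat.card {g : G // orderOf g = n} : ℕ) : ZMod q) = 0 :=
      (ZMod.natCast_eq_zero_iff _ _).2 h
    have hterm : ∀ n ∈ D, (Nat.card {g : G // orderOf g = n} : ZMod q) =
        (if n = 1 then 1 else 0) - (if n ∈ K then 1 else 0) := by
      intro n hn
      by_cases hn1 : n = 1
      · subst hn1
        have hc : Nat.card {g : G // orderOf g = 1} = 1 := by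
          rw [Nat.card_eq_one_iff_unique]
          exact ⟨⟨fun g h => Subtype.ext
            ((orderOf_eq_one_iff.1 g.2).trans (orderOf_eq_one_iff.1 h.2).symm)⟩, ⟨⟨1, orderOf_one⟩⟩⟩
        have hK : 1 ∉ K := fun h => by
          have := (mem_filter.1 h).2; omega
        rw [hc, if_pos rfl, if_neg hK]; simp
      rw [if_neg hn1, zero_sub]
      by_cases hK : n ∈ K
      · rw [if_pos hK, (mem_filter.1 hK).2, Nat.cast_sub (by omega), Nat.cast_pow, ZMod.natCast_self]
        simp
      rw [if_neg hK, neg_zero, ZMod.natCast_eq_zero_iff]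
      by_cases hn2 : n = 2
      · subst hn2; rw [hm2]; exact dvd_pow_self q two_ne_zero
      exact h12 n hn1 hn2 fun h => hK (mem_filter.2 ⟨hn, h⟩)
    have h1D : (1 : ℕ) ∈ D := mem_image.2 ⟨1, mem_univ _, orderOf_one⟩
    rw [Nat.cast_sum, sum_congr rfl hterm, sum_sub_distrib, sum_ite_eq' D 1, if_pos h1D,
      ← sum_filter, show D.filter (fun n => n ∈ K) = K by
        ext n; simp only [mem_filter]; exact ⟨fun h => h.2, fun h => ⟨(mem_filter.1 h).1, h⟩⟩,
      sum_const, nsmul_eq_mul, mul_one, sub_eq_zero] at h1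
    have h2 := congrArg ZMod.val h1
    haveI : Fact (1 < q) := ⟨by omega⟩
    rw [ZMod.val_one, ZMod.val_natCast] at h2
    exact h2.symm
  have hKle : K.card * (q ^ 2 - 1) < q * (q ^ 2 - 1) := by
    have h1 : ∑ n ∈ K, Nat.card {g : G // orderOf g = n} = K.card * (q ^ 2 - 1) := by
      rw [sum_congr rfl (fun n hn => (mem_filter.1 hn).2), sum_const, smul_eq_mul]
    rw [← h1, ← hG, hsum]
    refine sum_lt_sum_of_subset (i := 1) (filter_subset _ _)
      (mem_image.2 ⟨1, mem_univ _, orderOf_one⟩) (fun h => ?_) ?_ (fun _ _ _ => Nat.zero_le _)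
    · have := (mem_filter.1 h).2
      have hc : Nat.card {g : G // orderOf g = 1} ≤ 1 := by
        rw [Finite.card_le_one_iff_subsingleton]
        exact ⟨fun g h => Subtype.ext
          ((orderOf_eq_one_iff.1 g.2).trans (orderOf_eq_one_iff.1 h.2).symm)⟩
      omega
    · haveI : Nonempty {g : G // orderOf g = 1} := ⟨⟨1, orderOf_one⟩⟩
      exact Nat.card_pos
  have hK1 : K.card = 1 := by
    have hlt : K.card < q := Nat.lt_of_mul_lt_mul_right hKle
    have := hmodK (hsum ▸ hG ▸ dvd_mul_right q _)
    rwa [Nat.mod_eq_of_lt hlt] at this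
  have hpK : p ∈ K := by
    obtain ⟨g, hg⟩ := exists_prime_orderOf_dvd_card' p hpG
    exact mem_filter.2 ⟨mem_image.2 ⟨g, mem_univ _, hg⟩, hmp⟩
  have hdiv : ∀ n ∈ D, n ≠ 1 → n ≠ p → q ∣ Nat.card {g : G // orderOf g = n} := by
    intro n hn hn1 hnp
    by_cases hn2 : n = 2
    · subst hn2; rw [hm2]; exact dvd_pow_self q two_ne_zero
    refine h12 n hn1 hn2 fun h => hnp ?_
    exact Finset.card_le_one.1 hK1.le n (mem_filter.2 ⟨hn, h⟩) p hpK
  -- the `p`-regular elements
  have hroots : (q ^ 2 - 1) ∣ (univ.filter fun g : G => ¬ p ∣ orderOf g).card := by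
    have h1 := Cfsg.Agent.S4212.central_roots_dvd (1 : G) (fun g => by simp) (q ^ 2 - 1)
    rw [Nat.gcd_eq_left (hG ▸ dvd_mul_left _ _), Nat.card_eq_fintype_card, Fintype.card_subtype] at h1
    refine h1.trans (dvd_of_eq (congrArg Finset.card (filter_congr fun g _ => ?_)))
    rw [← orderOf_dvd_iff_pow_eq_one]
    have hpn : ¬ p ∣ q ^ 2 - 1 := fun h => hp.not_dvd_one (by
      have h2 : p ∣ (q ^ 2 - 1) + 1 := by
        rw [Nat.sub_add_cancel (by omega)]; exact hpq.trans (dvd_pow_self q two_ne_zero)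
      exact (Nat.dvd_add_right h).1 h2)
    refine ⟨fun h h' => hpn (h'.trans h), fun h => ?_⟩
    have hco : Nat.Coprime (orderOf g) q := hqdef ▸ ((hp.coprime_iff_not_dvd.2 h).symm.pow_right f)
    exact hco.dvd_of_dvd_mul_left (hG ▸ orderOf_dvd_natCard g)
  have hreg1 : q ∣ ((univ.filter fun g : G => ¬ p ∣ orderOf g).erase 1).card := by
    rw [card_eq_sum_card_image (fun g : G => orderOf g)]
    refine dvd_sum fun n hn => ?_
    obtain ⟨g, hg, rfl⟩ := mem_image.1 hn
    simp only [mem_erase, mem_filter, mem_univ, true_and] at hg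
    have hn1 : orderOf g ≠ 1 := fun h => hg.1 (orderOf_eq_one_iff.1 h)
    have hnp : orderOf g ≠ p := fun h => hg.2 (dvd_of_eq h.symm)
    refine (hdiv _ (mem_image.2 ⟨g, mem_univ _, rfl⟩) hn1 hnp).trans (dvd_of_eq ?_)
    rw [← hfib]
    congr 1
    ext h
    simp only [mem_filter, mem_erase, mem_univ, true_and]
    refine ⟨fun e => ⟨⟨fun e1 => hn1 (by rw [← e, e1, orderOf_one]), e ▸ hg.2⟩, e⟩, fun e => e.2⟩
  have hsing : (univ.filter fun g : G => orderOf g = p) ⊆ univ.filter fun g : G => p ∣ orderOf g :=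
    fun g hg => by
      simp only [mem_filter, mem_univ, true_and] at hg ⊢; rw [hg]
  have hsplit := card_filter_add_card_filter_not (s := (univ : Finset G)) (p := fun g => p ∣ orderOf g)
  rw [card_univ, ← Nat.card_eq_fintype_card, hG] at hsplit
  have h1mem : (1 : G) ∈ univ.filter fun g : G => ¬ p ∣ orderOf g := by
    simp [hp.one_lt.ne']
  rw [card_erase_of_mem h1mem] at hreg1
  have hge := card_le_card hsing
  rw [hfib, hmp] at hge
  obtain ⟨a, ha⟩ := hroots
  have hRpos := card_pos.2 ⟨1, h1mem⟩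
  obtain ⟨j, hj⟩ := hreg1
  have hR : (univ.filter fun g : G => ¬ p ∣ orderOf g).card = q * j + 1 := by omega
  rw [ha] at hR hsplit
  obtain ⟨r, hr⟩ : ∃ r, q ^ 2 - 1 = r := ⟨_, rfl⟩
  rw [hr] at hR hsplit hge hmp
  have hr1 : r + 1 = q * q := by rw [← hr, ← pow_two]; omega
  have hdvd : q ∣ a + 1 := by
    have he : q * (q * a) = q * j + (a + 1) := by
      rw [← mul_assoc, ← hr1, add_mul, one_mul, hR]; ring
    exact (Nat.dvd_add_right (dvd_mul_right q j)).1 (he ▸ dvd_mul_right q (q * a))
  have hle : r * (a + 1) ≤ r * q := by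
    rw [mul_add, mul_one, mul_comm r q]; omega
  have hle' := Nat.le_of_mul_le_mul_left hle (by nlinarith)
  have haq : a + 1 = q := le_antisymm hle' (Nat.le_of_dvd (by omega) hdvd)
  refine ⟨hm2, hr ▸ hmp, fun g hg => ?_⟩
  have hcard : (univ.filter fun g : G => p ∣ orderOf g).card = r := by
    have : r * q = r * a + r := by rw [← haq]; ring
    rw [mul_comm q r] at hsplit
    omega
  have heq := eq_of_subset_of_card_le hsing (by rw [hfib, hmp, hcard])
  have : g ∈ univ.filter fun g : G => p ∣ orderOf g := mem_filter.2 ⟨mem_univ _, hg⟩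
  rw [← heq] at this
  exact (mem_filter.1 this).2

/-- In a group of order `q (q² - 1)`, `q = p ^ f`, whose `q² - 1` elements of order `p` are all the
`p`-singular elements, there are `q + 1` abelian Sylow `p`-subgroups with trivial intersections. -/
theorem sylow_structure (hp2 : p ≠ 2) (hf : 0 < f) (hG : Nat.card G = p ^ f * ((p ^ f) ^ 2 - 1))
    (hmp : Nat.card {g : G // orderOf g = p} = (p ^ f) ^ 2 - 1)
    (hsing : ∀ g : G, p ∣ orderOf g → orderOf g = p) :
    (∀ S : Sylow p G, Nat.card S = p ^ f ∧ ∀ u ∈ (S : Subgroup G), u ≠ 1 →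
        Subgroup.centralizer ({u} : Set G) = (S : Subgroup G)) ∧
      Nat.card (Sylow p G) = p ^ f + 1 := by
  classical
  letI := Fintype.ofFinite G
  have hp : p.Prime := Fact.out
  obtain ⟨q, hqdef⟩ : ∃ q, q = p ^ f := ⟨_, rfl⟩
  have hq3 : 3 ≤ q := by
    have : 3 ≤ p := by have := hp.two_le; omega
    exact hqdef ▸ this.trans (Nat.le_self_pow hf.ne' p)
  have hpn : ¬ p ∣ q ^ 2 - 1 := fun h => hp.not_dvd_one (by
    have h2 : p ∣ (q ^ 2 - 1) + 1 := by
      rw [Nat.sub_add_cancel (by nlinarith)]
      exact (hqdef ▸ dvd_pow_self p hf.ne' : p ∣ q).trans (dvd_pow_self q two_ne_zero)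
    exact (Nat.dvd_add_right h).1 h2)
  have hScard : ∀ S : Sylow p G, Nat.card S = q := by
    intro S
    rw [Sylow.card_eq_multiplicity, hG, ← hqdef,
      Nat.factorization_mul (by omega) (fun h => hpn (by rw [h]; exact dvd_zero p)), hqdef]
    simp [hp.factorization_pow, Nat.factorization_eq_zero_of_not_dvd (hqdef ▸ hpn)]
  -- centralisers of elements of order `p`
  have hC : ∀ x : G, orderOf x = p →
      (∃ S : Sylow p G, Subgroup.centralizer ({x} : Set G) = (S : Subgroup G)) ∧
        ∀ y : G, orderOf y = p → ∃ g : G, g * x * g⁻¹ = y := by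
    intro x hx
    set C := Subgroup.centralizer ({x} : Set G) with hCdef
    have hCp : IsPGroup p C := by
      intro c
      obtain ⟨k, b, hb, he⟩ := Nat.exists_eq_pow_mul_and_not_dvd (orderOf_pos (c : G)).ne' p hp.ne_one
      refine ⟨k, ?_⟩
      have hb0 : orderOf ((c : G) ^ p ^ k) = b := by
        rw [orderOf_pow_of_dvd (pow_ne_zero _ hp.ne_zero) (he ▸ dvd_mul_right _ _), he,
          Nat.mul_div_cancel_left _ (pow_pos hp.pos _)]
      have hcomm : Commute x ((c : G) ^ p ^ k) :=
        (show Commute x (c : G) from (Subgroup.mem_centralizer_singleton_iff.1 c.2).symm).pow_right _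
      have hmul := hcomm.orderOf_mul_eq_mul_orderOf_of_coprime
        (by rw [hx, hb0]; exact hp.coprime_iff_not_dvd.2 hb)
      rw [hx, hb0] at hmul
      have := hsing _ (hmul ▸ dvd_mul_right p b)
      rw [hmul] at this
      have hb1 : b = 1 := Nat.eq_of_mul_eq_mul_left hp.pos (this.trans (mul_one p).symm)
      exact Subtype.ext (by rw [SubmonoidClass.coe_pow]; exact orderOf_eq_one_iff.1 (hb0.trans hb1))
    obtain ⟨S, hS⟩ := hCp.exists_le_sylow
    have hle : Nat.card C ≤ q := hScard S ▸ Subgroup.card_le_of_le hS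
    let φ : G ⧸ C → {y : G // orderOf y = p} := fun a => Quotient.liftOn' a
      (fun g => ⟨g * x * g⁻¹, by rw [show g * x * g⁻¹ = MulAut.conj g x from rfl, MulEquiv.orderOf_eq, hx]⟩)
      (fun g h hgh => by
        rw [QuotientGroup.leftRel_apply] at hgh
        have := Subgroup.mem_centralizer_singleton_iff.1 hgh
        apply Subtype.ext
        show g * x * g⁻¹ = h * x * h⁻¹
        calc g * x * g⁻¹ = g * (x * (g⁻¹ * h)) * h⁻¹ := by group
          _ = g * ((g⁻¹ * h) * x) * h⁻¹ := by rw [this]
          _ = h * x * h⁻¹ := by group)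
    have hφ : Function.Injective φ := by
      intro a b
      induction a using Quotient.inductionOn' with | h g => ?_
      induction b using Quotient.inductionOn' with | h h => ?_
      intro e
      have e' : g * x * g⁻¹ = h * x * h⁻¹ := congrArg Subtype.val e
      refine Quotient.sound' ?_
      rw [QuotientGroup.leftRel_apply, Subgroup.mem_centralizer_singleton_iff]
      calc g⁻¹ * h * x = g⁻¹ * (h * x * h⁻¹) * h := by group
        _ = g⁻¹ * (g * x * g⁻¹) * h := by rw [e']
        _ = x * (g⁻¹ * h) := by group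
    have hi := Nat.card_le_card_of_injective φ hφ
    rw [← Subgroup.index_eq_card, hmp, ← hqdef] at hi
    have hmul := Subgroup.index_mul_card C
    rw [hG, ← hqdef] at hmul
    have hpos : 0 < q ^ 2 - 1 := by
      have : 9 ≤ q ^ 2 := by nlinarith
      omega
    have hCq : Nat.card C = q := by nlinarith
    constructor
    · exact ⟨S, Subgroup.eq_of_le_of_card_ge hS (by rw [hScard S, hCq])⟩
    · intro y hy
      have hidx : C.index = q ^ 2 - 1 := by
        rw [hCq] at hmul
        exact Nat.eq_of_mul_eq_mul_right (by omega) (hmul.trans (mul_comm _ _))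
      obtain ⟨a, ha⟩ := (hφ.bijective_of_nat_card_le (by
        rw [← Subgroup.index_eq_card, hidx, hmp, ← hqdef])).2 ⟨y, hy⟩
      induction a using Quotient.inductionOn' with | h g => ?_
      exact ⟨g, congrArg Subtype.val ha⟩
  have hord : ∀ S : Sylow p G, ∀ u ∈ (S : Subgroup G), u ≠ 1 → orderOf u = p := by
    intro S u hu hu1
    obtain ⟨k, hk⟩ := S.2 ⟨u, hu⟩
    have hk' : u ^ p ^ k = 1 := congrArg Subtype.val hk
    obtain ⟨i, -, hi⟩ := (Nat.dvd_prime_pow hp).1 (orderOf_dvd_of_pow_eq_one hk')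
    rcases Nat.eq_zero_or_pos i with rfl | hi0
    · rw [pow_zero] at hi; exact absurd (orderOf_eq_one_iff.1 hi) hu1
    · exact hsing u (hi ▸ dvd_pow_self p hi0.ne')
  have hmain : ∀ S : Sylow p G, ∀ u ∈ (S : Subgroup G), u ≠ 1 →
      Subgroup.centralizer ({u} : Set G) = (S : Subgroup G) := by
    intro S
    haveI : Nontrivial (S : Subgroup G) := Finite.one_lt_card_iff_nontrivial.1 (by
      have := hScard S
      show 1 < Nat.card S
      omega)
    haveI := IsPGroup.center_nontrivial S.2
    obtain ⟨⟨⟨z, hzS⟩, hz⟩, hz1⟩ := exists_ne (1 : Subgroup.center (S : Subgroup G))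
    have hz1' : z ≠ 1 := fun h => hz1 (Subtype.ext (Subtype.ext h))
    have hzo := hord S z hzS hz1'
    -- `C(z) = S`
    have hCz : Subgroup.centralizer ({z} : Set G) = (S : Subgroup G) := by
      obtain ⟨⟨T, hT⟩, -⟩ := hC z hzo
      have hST : (S : Subgroup G) ≤ T := hT ▸ fun s hs =>
        Subgroup.mem_centralizer_singleton_iff.2 (congrArg Subtype.val
          (Subgroup.mem_center_iff.1 hz ⟨s, hs⟩))
      rw [hT]
      exact (Subgroup.eq_of_le_of_card_ge hST (le_of_eq ((hScard T).trans (hScard S).symm))).symm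
    -- an involution inverting `S`
    obtain ⟨g, hg⟩ := (hC z hzo).2 z⁻¹ (by rw [orderOf_inv, hzo])
    have hzz : z⁻¹ ≠ z := fun h => by
      have h2 : orderOf z ∣ 2 :=
        orderOf_dvd_of_pow_eq_one (by rw [pow_two]; nth_rewrite 1 [← h]; exact inv_mul_cancel z)
      rw [hzo] at h2
      exact hp2 ((Nat.prime_dvd_prime_iff_eq hp Nat.prime_two).1 h2)
    have hg2 : g ^ 2 ∈ Subgroup.centralizer ({z} : Set G) := by
      rw [Subgroup.mem_centralizer_singleton_iff]
      have : g ^ 2 * z * (g ^ 2)⁻¹ = z := by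
        calc g ^ 2 * z * (g ^ 2)⁻¹ = g * (g * z * g⁻¹) * g⁻¹ := by rw [pow_two]; group
          _ = g * z⁻¹ * g⁻¹ := by rw [hg]
          _ = (g * z * g⁻¹)⁻¹ := by group
          _ = z := by rw [hg, inv_inv]
      exact mul_inv_eq_iff_eq_mul.1 this
    have hgev : Even (orderOf g) := by
      by_contra hodd
      obtain ⟨k, hk⟩ := Nat.not_even_iff_odd.1 hodd
      have : g ∈ Subgroup.centralizer ({z} : Set G) := by
        have h1 : g = (g ^ 2) ^ (k + 1) := by
          rw [← pow_mul, show 2 * (k + 1) = orderOf g + 1 by omega, pow_succ, pow_orderOf_eq_one, one_mul]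
        rw [h1]; exact pow_mem hg2 _
      rw [Subgroup.mem_centralizer_singleton_iff] at this
      rw [this, mul_inv_cancel_right] at hg
      exact hzz hg.symm
    have hgN : g ∈ Subgroup.normalizer ((S : Subgroup G) : Set G) := by
      rw [Subgroup.mem_normalizer_iff]
      intro y
      rw [← hCz, Subgroup.mem_centralizer_singleton_iff, Subgroup.mem_centralizer_singleton_iff]
      have hz' : z = (g * z * g⁻¹)⁻¹ := by rw [hg, inv_inv]
      constructor
      · intro h
        nth_rewrite 1 [hz']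
        nth_rewrite 2 [hz']
        calc g * y * g⁻¹ * (g * z * g⁻¹)⁻¹ = g * (y * z⁻¹) * g⁻¹ := by group
          _ = g * (z⁻¹ * y) * g⁻¹ := by rw [(show Commute y z from h).inv_right.eq]
          _ = (g * z * g⁻¹)⁻¹ * (g * y * g⁻¹) := by group
      · intro h
        rw [hz'] at h
        have h2 : Commute (g * y * g⁻¹) (g * z * g⁻¹) := by
          have := (show Commute (g * y * g⁻¹) (g * z * g⁻¹)⁻¹ from h).inv_right
          rwa [inv_inv] at this
        exact (Commute.conj_iff g).1 h2
    set t := g ^ (orderOf g / 2) with ht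
    have hto : orderOf t = 2 := by
      obtain ⟨k, hk⟩ := hgev
      rw [ht, orderOf_pow_of_dvd (by have := orderOf_pos g; omega) (Nat.div_dvd_of_dvd (by omega)),
        Nat.div_div_self (by omega) (orderOf_pos g).ne']
    have htN : t ∈ Subgroup.normalizer ((S : Subgroup G) : Set G) := pow_mem hgN _
    -- `t` commutes with no non-trivial element of `S`
    have hfpf : ∀ s ∈ (S : Subgroup G), t * s * t⁻¹ = s → s = 1 := by
      intro s hs hts
      by_contra hs1
      obtain ⟨⟨T, hT⟩, -⟩ := hC s (hord S s hs hs1)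
      have htT : t ∈ (T : Subgroup G) :=
        hT ▸ Subgroup.mem_centralizer_singleton_iff.2 (mul_inv_eq_iff_eq_mul.1 hts)
      obtain ⟨i, hi⟩ := T.2 ⟨t, htT⟩
      have h2 : orderOf t ∣ p ^ i := orderOf_dvd_of_pow_eq_one (congrArg Subtype.val hi)
      rw [hto] at h2
      exact hp2 ((Nat.prime_dvd_prime_iff_eq Nat.prime_two hp).1 (Nat.prime_two.dvd_of_dvd_pow h2)).symm
    let ψ : (S : Subgroup G) →* (S : Subgroup G) := MonoidHom.mk'
      (fun s => ⟨t * s * t⁻¹, (Subgroup.mem_normalizer_iff.1 htN s).1 s.2⟩)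
      (fun a b => Subtype.ext (by simp [mul_assoc]))
    have hψ : MonoidHom.FixedPointFree ψ := fun s hs =>
      Subtype.ext (hfpf s s.2 (congrArg Subtype.val hs))
    have ht2 : t * t = 1 := by rw [← pow_two, ← hto, pow_orderOf_eq_one]
    have hψ2 : Function.Involutive ψ := fun s => Subtype.ext (by
      show t * (t * s * t⁻¹) * t⁻¹ = s
      calc t * (t * s * t⁻¹) * t⁻¹ = (t * t) * s * (t * t)⁻¹ := by group
        _ = s := by rw [ht2]; simp)
    have hinv : ∀ s : (S : Subgroup G), ψ s = s⁻¹ :=
      fun s => congrFun (hψ.coe_eq_inv_of_involutive hψ2) s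
    have hab : ∀ a b : (S : Subgroup G), a * b = b * a := fun a b => by
      have h := map_mul ψ a b
      rw [hinv, hinv, hinv, ← mul_inv_rev] at h
      exact inv_injective h |>.symm ▸ rfl
    intro u hu hu1
    obtain ⟨⟨T, hT⟩, -⟩ := hC u (hord S u hu hu1)
    have hST : (S : Subgroup G) ≤ T := hT ▸ fun s hs =>
      Subgroup.mem_centralizer_singleton_iff.2 (congrArg Subtype.val (hab ⟨s, hs⟩ ⟨u, hu⟩))
    rw [hT]
    exact (Subgroup.eq_of_le_of_card_ge hST (le_of_eq ((hScard T).trans (hScard S).symm))).symm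
  refine ⟨fun S => ⟨(hScard S).trans hqdef, hmain S⟩, ?_⟩
  -- the count
  letI := Fintype.ofFinite (Sylow p G)
  let Φ : {x : G // orderOf x = p} → Sylow p G := fun x => Classical.choose (hC x.1 x.2).1
  have hΦ : ∀ x : {x : G // orderOf x = p}, ∀ S : Sylow p G,
      Φ x = S ↔ x.1 ∈ (S : Subgroup G) := by
    intro x S
    have hspec : Subgroup.centralizer ({x.1} : Set G) = (Φ x : Subgroup G) :=
      Classical.choose_spec (hC x.1 x.2).1
    constructor
    · rintro rfl; rw [← hspec, Subgroup.mem_centralizer_singleton_iff]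
    · intro hx
      refine Sylow.ext ?_
      rw [← hspec, hmain S x.1 hx (fun h => hp.one_lt.ne' (by rw [← x.2, h, orderOf_one]))]
  have hfib : ∀ S ∈ (univ : Finset (Sylow p G)),
      (univ.filter fun x : {x : G // orderOf x = p} => Φ x = S).card = q - 1 := by
    intro S _
    have h1 : (univ.filter fun x : {x : G // orderOf x = p} => Φ x = S).map
        (Function.Embedding.subtype _) = (univ.filter fun g : G => g ∈ (S : Subgroup G)).erase 1 := by
      ext g
      simp only [Finset.mem_map, mem_filter, mem_univ, true_and, mem_erase, Function.Embedding.coe_subtype]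
      constructor
      · rintro ⟨x, hx, rfl⟩
        exact ⟨fun h => hp.one_lt.ne' (by rw [← x.2, h, orderOf_one]), (hΦ x S).1 hx⟩
      · rintro ⟨hg1, hg⟩
        exact ⟨⟨g, hord S g hg hg1⟩, (hΦ _ S).2 hg, rfl⟩
    rw [← card_map (Function.Embedding.subtype _), h1,
      card_erase_of_mem (by simp [one_mem]), ← Fintype.card_subtype, ← Nat.card_eq_fintype_card]
    exact congrArg (· - 1) (hScard S)
  have hsum := card_eq_sum_card_fiberwise (s := (univ : Finset {x : G // orderOf x = p}))
    (t := (univ : Finset (Sylow p G))) (f := Φ) (fun _ _ => mem_univ _)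
  rw [sum_congr rfl hfib, sum_const, card_univ, card_univ, smul_eq_mul, ← Nat.card_eq_fintype_card,
    hmp, ← Nat.card_eq_fintype_card, ← hqdef] at hsum
  have hsq : q ^ 2 - 1 = (q + 1) * (q - 1) := by rw [← Nat.sq_sub_sq, one_pow]
  rw [hsq] at hsum
  rw [← hqdef]
  exact (Nat.eq_of_mul_eq_mul_right (by omega) hsum).symm

/-- Recognition of `PGL₂(q)` from the numbers of elements of each order. -/
theorem pgl_of_orderCounts (hp2 : p ≠ 2) (hf : 0 < f)
    (hG : Nat.card G = p ^ f * ((p ^ f) ^ 2 - 1))
    (hvals : ∀ n, 0 < Nat.card {g : G // orderOf g = n} →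
      Nat.card {g : G // orderOf g = n} = 1 ∨ Nat.card {g : G // orderOf g = n} = (p ^ f) ^ 2 ∨
      Nat.card {g : G // orderOf g = n} = (p ^ f) ^ 2 - 1 ∨
      p ^ f ∣ Nat.card {g : G // orderOf g = n} ∧ Even (Nat.card {g : G // orderOf g = n}))
    (hsq : ∃ n, Nat.card {g : G // orderOf g = n} = (p ^ f) ^ 2) :
    ∃ (F : Type) (_ : Field F) (_ : Fintype F), Fintype.card F = p ^ f ∧
      Nonempty (G ≃* Matrix.ProjGenLinGroup (Fin 2) F) := by
  classical
  letI := Fintype.ofFinite G
  letI := Fintype.ofFinite (Sylow p G)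
  have hp : p.Prime := Fact.out
  obtain ⟨hm2, hmp, hsing⟩ := singular_order hp2 hf hG hvals hsq
  obtain ⟨hS, hn⟩ := sylow_structure hp2 hf hG hmp hsing
  obtain ⟨q, hqdef⟩ : ∃ q, q = p ^ f := ⟨_, rfl⟩
  rw [← hqdef] at hG hm2 hS hn ⊢
  have hq3 : 3 ≤ q := by
    have : 3 ≤ p := by have := hp.two_le; omega
    exact hqdef ▸ this.trans (Nat.le_self_pow hf.ne' p)
  have hΩ : Fintype.card (Sylow p G) = q + 1 := by rw [← Nat.card_eq_fintype_card, hn]
  have hc : ∀ S : Sylow p G, ∀ u ∈ (S : Subgroup G), u ≠ 1 → ∀ g : G, g * u = u * g →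
      ∀ v ∈ (S : Subgroup G), g * v = v * g := by
    intro S u hu hu1 g hg v hv
    have hg' : g ∈ (S : Subgroup G) :=
      (hS S).2 u hu hu1 ▸ Subgroup.mem_centralizer_singleton_iff.2 hg
    by_cases hg1 : g = 1
    · simp [hg1]
    · rw [← (hS S).2 g hg' hg1] at hv
      exact (Subgroup.mem_centralizer_singleton_iff.1 hv).symm
  have hfix := fun (S : Sylow p G) {u : G} (hu : u ∈ (S : Subgroup G)) (hu1 : u ≠ 1) {Q : Sylow p G}
    (hQ : u • Q = Q) => PSL2.Recog.fix_only S (hc S) hu hu1 hQ
  have hreg : ∀ P b c : Sylow p G, b ≠ P → c ≠ P → ∃ u ∈ (P : Subgroup G), u • b = c :=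
    fun P b c hb hcP => PSL2.Recog.exists_smul_other P (by rw [hn, (hS P).1]) (hc P) hb hcP
  -- the action is sharp
  have hfree : ∀ g : G, ∀ a b c : Sylow p G, a ≠ b → a ≠ c → b ≠ c →
      g • a = a → g • b = b → g • c = c → g = 1 := by
    intro g a b c hab hac hbc ha hb hc'
    obtain ⟨u, hu, rfl⟩ := hreg a b c hab.symm hac.symm
    have hu1 : u ≠ 1 := fun h => hbc (by rw [h, one_smul])
    have hgu : g * u * g⁻¹ ∈ (a : Subgroup G) :=
      (Subgroup.mem_normalizer_iff.1 (SmallSimple.smul_sylow_eq_iff.1 ha) u).1 hu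
    have he : (g * u * g⁻¹) • b = u • b := by
      rw [mul_smul, mul_smul, inv_smul_eq_iff.2 hb.symm, hc']
    have heq : g * u * g⁻¹ = u := by
      by_contra hne
      refine hab.symm (hfix a (mul_mem (inv_mem hu) hgu) (fun h => hne (inv_mul_eq_one.1 h).symm) ?_)
      rw [mul_smul, he, inv_smul_smul]
    have hga : g ∈ (a : Subgroup G) :=
      (hS a).2 u hu hu1 ▸ Subgroup.mem_centralizer_singleton_iff.2 (mul_inv_eq_iff_eq_mul.1 heq)
    by_contra hg1
    exact hab.symm (hfix a hga hg1 hb)
  have h3Ω : 3 ≤ Fintype.card (Sylow p G) := by omega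
  obtain ⟨e0⟩ : Nonempty (Fin 3 ↪ Sylow p G) :=
    Function.Embedding.nonempty_of_card_le (by rw [Fintype.card_fin]; exact h3Ω)
  have hsharp : ∀ x : Fin 3 ↪ Sylow p G, MulAction.stabilizer G x = ⊥ := by
    intro x
    rw [Subgroup.eq_bot_iff_forall]
    intro g hg
    have hgx : ∀ i, g • x i = x i := fun i => congrArg (fun e : Fin 3 ↪ Sylow p G => e i) hg
    exact hfree g (x 0) (x 1) (x 2) (x.injective.ne (by decide)) (x.injective.ne (by decide))
      (x.injective.ne (by decide)) (hgx 0) (hgx 1) (hgx 2)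
  have hsq' : q ^ 2 - 1 = (q + 1) * (q - 1) := by rw [← Nat.sq_sub_sq, one_pow]
  have h3 : MulAction.IsMultiplyPretransitive G (Sylow p G) 3 := by
    have hbij : ∀ x : Fin 3 ↪ Sylow p G, Function.Bijective fun g : G => g • x := by
      intro x
      have hinj : Function.Injective fun g : G => g • x := by
        intro g h e
        have hm : h⁻¹ * g ∈ MulAction.stabilizer G x := by
          show (h⁻¹ * g) • x = x
          rw [mul_smul]
          exact inv_smul_eq_iff.2 e
        rw [hsharp x, Subgroup.mem_bot, inv_mul_eq_one] at hm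
        exact hm.symm
      refine hinj.bijective_of_nat_card_le ?_
      rw [Nat.card_eq_fintype_card, Fintype.card_embedding_eq, Fintype.card_fin, hΩ, hG, hsq']
      simp only [Nat.descFactorial_succ, Nat.descFactorial_zero, Nat.sub_zero, mul_one,
        Nat.add_sub_cancel]
      rw [show q + 1 - 2 = q - 1 by omega]
      exact le_of_eq (by ring)
    constructor
    intro x y
    exact (hbij x).2 y
  haveI : FaithfulSMul G (Sylow p G) := ⟨fun {g h} e => by
    have := hfree (h⁻¹ * g) (e0 0) (e0 1) (e0 2) (e0.injective.ne (by decide))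
      (e0.injective.ne (by decide)) (e0.injective.ne (by decide))
      (by rw [mul_smul, e, inv_smul_smul]) (by rw [mul_smul, e, inv_smul_smul])
      (by rw [mul_smul, e, inv_smul_smul])
    exact (inv_mul_eq_one.1 this).symm⟩
  haveI := h3
  haveI : MulAction.IsPretransitive G (Sylow p G) := inferInstance
  -- the involutions fixing a given point
  let I := univ.filter fun g : G => orderOf g = 2
  have hI : I.card = q ^ 2 := by rw [← hm2, Nat.card_eq_fintype_card, Fintype.card_subtype]
  have hIfix : ∀ a : Sylow p G, (I.filter fun g => g • a = a).card ≤ q := by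
    intro a
    rcases (I.filter fun g => g • a = a).eq_empty_or_nonempty with h | ⟨t, ht⟩
    · simp [h]
    have hinvert : ∀ t ∈ I.filter (fun g => g • a = a), ∀ s ∈ (a : Subgroup G), t * s * t⁻¹ = s⁻¹ := by
      intro t ht s hs
      simp only [I, mem_filter, mem_univ, true_and] at ht
      have htN := SmallSimple.smul_sylow_eq_iff.1 ht.2
      have htt : t * t = 1 := by rw [← pow_two, ← ht.1, pow_orderOf_eq_one]
      let ψ : (a : Subgroup G) →* (a : Subgroup G) := MonoidHom.mk'
        (fun s => ⟨t * s * t⁻¹, (Subgroup.mem_normalizer_iff.1 htN s).1 s.2⟩)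
        (fun x y => Subtype.ext (by simp [mul_assoc]))
      have hψ : MonoidHom.FixedPointFree ψ := fun s hs => by
        by_contra hs1
        have hs1' : (s : G) ≠ 1 := fun h => hs1 (Subtype.ext h)
        have hta : t ∈ (a : Subgroup G) := (hS a).2 _ s.2 hs1' ▸
          Subgroup.mem_centralizer_singleton_iff.2 (mul_inv_eq_iff_eq_mul.1 (congrArg Subtype.val hs))
        obtain ⟨i, hi⟩ := a.2 ⟨t, hta⟩
        have h2 : orderOf t ∣ p ^ i := orderOf_dvd_of_pow_eq_one (congrArg Subtype.val hi)
        rw [ht.1] at h2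
        exact hp2 ((Nat.prime_dvd_prime_iff_eq Nat.prime_two hp).1 (Nat.prime_two.dvd_of_dvd_pow h2)).symm
      have hψ2 : Function.Involutive ψ := fun s => Subtype.ext (by
        show t * (t * s * t⁻¹) * t⁻¹ = s
        calc t * (t * s * t⁻¹) * t⁻¹ = (t * t) * s * (t * t)⁻¹ := by group
          _ = s := by rw [htt]; simp)
      exact congrArg Subtype.val (congrFun (hψ.coe_eq_inv_of_involutive hψ2) ⟨s, hs⟩)
    obtain ⟨s, hs, hs1⟩ : ∃ s ∈ (a : Subgroup G), s ≠ 1 := by
      refine (Subgroup.bot_or_exists_ne_one (a : Subgroup G)).resolve_left fun h => ?_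
      have := (hS a).1
      change Nat.card (a : Subgroup G) = q at this
      rw [h, Subgroup.card_bot] at this
      omega
    have hmaps : ∀ t' ∈ I.filter (fun g => g • a = a),
        t⁻¹ * t' ∈ univ.filter fun g : G => g ∈ (a : Subgroup G) := by
      intro t' ht'
      simp only [mem_filter, mem_univ, true_and]
      rw [← (hS a).2 s hs hs1, Subgroup.mem_centralizer_singleton_iff]
      have e1 := hinvert t ht s hs
      have e2 := hinvert t' ht' s hs
      calc t⁻¹ * t' * s = t⁻¹ * (t' * s * t'⁻¹) * t' := by group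
        _ = t⁻¹ * (t * s * t⁻¹) * t' := by rw [e2, e1]
        _ = s * (t⁻¹ * t') := by group
    refine (card_le_card_of_injOn (fun t' => t⁻¹ * t') hmaps (fun x _ y _ h => mul_left_cancel h)).trans ?_
    rw [← Fintype.card_subtype, ← Nat.card_eq_fintype_card]
    exact le_of_eq (hS a).1
  -- each pair is swapped by `q - 1` involutions
  let Co : Sylow p G × Sylow p G → Finset G := fun w =>
    univ.filter fun g => g • w.1 = w.2 ∧ g • w.2 = w.1
  let W := (univ : Finset (Sylow p G)).offDiag
  have hCo : ∀ w ∈ W, (Co w).card ≤ q - 1 := by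
    rintro ⟨a, b⟩ hw
    have hab : a ≠ b := (mem_offDiag.1 hw).2.2
    obtain ⟨c, -, hc'⟩ := exists_mem_notMem_of_card_lt_card (s := ({a, b} : Finset (Sylow p G)))
      (t := univ) (by rw [card_pair hab, card_univ]; omega)
    simp only [mem_insert, mem_singleton, not_or] at hc'
    have hmaps : ∀ g ∈ Co (a, b), g • c ∈ ((univ : Finset (Sylow p G)).erase a).erase b := by
      intro g hg
      simp only [Co, mem_filter, mem_univ, true_and] at hg
      simp only [mem_erase, mem_univ, and_true]
      exact ⟨fun h => hc'.1 (smul_left_cancel g (h.trans hg.1.symm)),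
        fun h => hc'.2 (smul_left_cancel g (h.trans hg.2.symm))⟩
    refine (card_le_card_of_injOn (fun g => g • c) hmaps ?_).trans ?_
    · intro g hg h hh e
      simp only [Co, coe_filter, mem_univ, true_and, Set.mem_ofPred_eq] at hg hh
      have := hfree (h⁻¹ * g) a b c hab (Ne.symm hc'.1) (Ne.symm hc'.2)
        (by rw [mul_smul, hg.1, inv_smul_eq_iff, hh.1]) (by rw [mul_smul, hg.2, inv_smul_eq_iff, hh.2])
        (by rw [mul_smul]; exact inv_smul_eq_iff.2 e)
      exact (inv_mul_eq_one.1 this).symm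
    · rw [card_erase_of_mem (by simp [hab.symm]), card_erase_of_mem (mem_univ _), card_univ, hΩ]
      omega
  have hsumSw : ∑ w ∈ W, ((Co w).filter fun g => orderOf g = 2).card = W.card * (q - 1) := by
    refine le_antisymm ((sum_le_sum fun w hw => (card_filter_le _ _).trans (hCo w hw)).trans
      (by rw [sum_const, smul_eq_mul])) ?_
    have hWcard : W.card = (q + 1) * q := by
      rw [offDiag_card, card_univ, hΩ, ← Nat.mul_sub_one, Nat.add_sub_cancel]
    have hmove : ∀ g ∈ I, (W.filter fun w => g • w.1 = w.2 ∧ g • w.2 = w.1).card =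
        (univ.filter fun a : Sylow p G => g • a ≠ a).card := by
      intro g hg
      simp only [I, mem_filter, mem_univ, true_and] at hg
      have hgg : g * g = 1 := by rw [← pow_two, ← hg, pow_orderOf_eq_one]
      refine card_bij' (fun w _ => w.1) (fun a _ => (a, g • a)) ?_ ?_ ?_ ?_
      · intro w hw
        simp only [W, mem_filter, mem_offDiag, mem_univ, true_and] at hw ⊢
        rw [hw.2.1]; exact Ne.symm hw.1
      · intro a ha
        simp only [W, mem_filter, mem_offDiag, mem_univ, true_and] at ha ⊢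
        exact ⟨Ne.symm ha, by rw [← mul_smul, hgg, one_smul]⟩
      · intro w hw
        simp only [mem_filter] at hw
        exact Prod.ext rfl hw.2.1
      · intros; rfl
    have htot : ∑ w ∈ W, ((Co w).filter fun g => orderOf g = 2).card =
        ∑ g ∈ I, (univ.filter fun a : Sylow p G => g • a ≠ a).card := by
      rw [← sum_congr rfl hmove]
      simp only [Co, filter_filter, card_filter]
      rw [sum_comm, sum_filter]
      refine sum_congr rfl fun g _ => ?_
      by_cases hg : orderOf g = 2 <;> simp [hg]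
    have hfixsum : ∑ g ∈ I, (univ.filter fun a : Sylow p G => g • a = a).card ≤ (q + 1) * q := by
      simp only [card_filter]
      rw [sum_comm]
      simp only [← card_filter]
      calc _ ≤ ∑ _a : Sylow p G, q := sum_le_sum fun a _ => hIfix a
        _ = _ := by rw [sum_const, card_univ, hΩ, smul_eq_mul]
    have hadd : ∑ g ∈ I, (univ.filter fun a : Sylow p G => g • a = a).card +
        ∑ g ∈ I, (univ.filter fun a : Sylow p G => g • a ≠ a).card = q ^ 2 * (q + 1) := by
      rw [← sum_add_distrib, sum_congr rfl (g := fun _ => q + 1) fun g _ => by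
        rw [card_filter_add_card_filter_not, card_univ, hΩ], sum_const, hI, smul_eq_mul]
    rw [htot, hWcard]
    obtain ⟨j, rfl⟩ : ∃ j, q = j + 1 := ⟨q - 1, by omega⟩
    rw [Nat.add_sub_cancel]
    nlinarith
  have hall : ∀ w ∈ W, ((Co w).filter fun g => orderOf g = 2).card = q - 1 :=
    (sum_eq_sum_iff_of_le fun w hw => (card_filter_le _ _).trans (hCo w hw)).1
      (by rw [hsumSw, sum_const, smul_eq_mul])
  -- two-point stabilisers are abelian
  have hab : (e0 0) ≠ e0 1 := e0.injective.ne (by decide)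
  have hw : (e0 0, e0 1) ∈ W := mem_offDiag.2 ⟨mem_univ _, mem_univ _, hab⟩
  have hallinv : ∀ g ∈ Co (e0 0, e0 1), g * g = 1 := by
    intro g hg
    have heq := eq_of_subset_of_card_le (filter_subset (fun g => orderOf g = 2) (Co (e0 0, e0 1)))
      (by rw [hall _ hw]; exact hCo _ hw)
    rw [← heq] at hg
    rw [← pow_two, ← (mem_filter.1 hg).2, pow_orderOf_eq_one]
  obtain ⟨s, hs⟩ : (Co (e0 0, e0 1)).Nonempty := by
    have h1 := hall _ hw
    obtain ⟨s, hs⟩ := card_pos.1 (show 0 < ((Co (e0 0, e0 1)).filter fun g => orderOf g = 2).card by omega)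
    exact ⟨s, (mem_filter.1 hs).1⟩
  have hcomm : ∀ h h' : G, h • e0 0 = e0 0 → h • e0 1 = e0 1 → h' • e0 0 = e0 0 → h' • e0 1 = e0 1 →
      h * h' = h' * h := by
    have key : ∀ h : G, h • e0 0 = e0 0 → h • e0 1 = e0 1 → s * h * s = h⁻¹ := by
      intro h h0 h1
      have hs' : s • e0 0 = e0 1 ∧ s • e0 1 = e0 0 := (mem_filter.1 hs).2
      have := hallinv (s * h) (mem_filter.2 ⟨mem_univ _, by
        exact ⟨by rw [mul_smul, h0, hs'.1], by rw [mul_smul, h1, hs'.2]⟩⟩)
      exact eq_inv_of_mul_eq_one_left (by rw [← this]; group)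
    intro h h' a1 a2 b1 b2
    have e1 := key (h * h') (by rw [mul_smul, b1, a1]) (by rw [mul_smul, b2, a2])
    rw [show s * (h * h') * s = (s * h * s) * (s * h' * s) by
      calc s * (h * h') * s = s * h * 1 * h' * s := by group
        _ = s * h * (s * s) * h' * s := by rw [hallinv s hs]
        _ = (s * h * s) * (s * h' * s) := by group, key h a1 a2, key h' b1 b2, ← mul_inv_rev] at e1
    exact (inv_injective e1).symm
  have hevΩ : Even (Fintype.card (Sylow p G)) := by
    rw [hΩ, hqdef, Nat.even_add_one, Nat.not_even_iff_odd]; exact (hp.odd_of_ne_two hp2).pow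
  obtain ⟨F, iF, iF', ⟨hF, hiso⟩ | hlt⟩ := Perm.pgl_of_sharply_three_comm h3 hsharp hevΩ hab hcomm
  · exact ⟨F, iF, iF', by omega, hiso⟩
  · omega

end Cfsg.Agent.NSE
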